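import Cfsg.Agent.H843.Pat
import Cfsg.Agent.H843.D11M

/-!
# `Fi24`: an element of order 11 (helper843)

Generated data and kernel checks for `Pat.Data`.
-/

set_option autoImplicit false
set_option maxRecDepth 100000
set_option Elab.async false

namespace Cfsg.Agent.H843.D11

open Cfsg Cfsg.Agent.Lib.PermNet Cfsg.Agent.Lib.PermNetPt Cfsg.Agent.Fischer.Fi24RepDef Cfsg.Agent.Fischer.Fi24Rep
open Cfsg.Agent.KFacts.FiTF.FixMask Cfsg.Agent.H843.Pat
open Cfsg.Agent.Fischer.Fi24RepOrb (UG)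
open Cfsg.Spor (Fi24)
open Cfsg.Spor.Fi24 (Gen)

def xw : List Gen := [.a, .c, .e, .g, .l, .b, .d, .f, .j, .k]

def w9 : List Gen := [.b, .a, .k, .b, .a, .f, .e, .d, .c, .b, .f, .e, .d, .c, .g, .f, .e, .d, .j, .g, .f, .e, .g, .f, .j, .g]

def w4 : List Gen := [.c, .b, .k, .a, .l, .k, .j, .g, .f, .e, .d, .c, .b, .a, .g, .f, .e, .d, .c, .b, .d, .c, .e, .g, .f, .j, .g, .j]

def w3 : List Gen := [.b, .a, .j, .g, .f, .e, .d, .c, .b, .k, .a, .l, .k, .d, .c, .b, .a, .l, .b, .f, .e, .d, .f, .e, .g, .f, .j, .g]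

def w5 : List Gen := [.b, .a, .c, .b, .k, .a, .l, .k, .e, .d, .c, .b, .a, .e, .d, .c, .b, .d, .c, .e, .d, .g, .f, .e, .g, .f]

def d2w : List Gen := [.h, .l, .b, .d, .k, .a, .c, .e, .g, .l, .b, .d, .f, .j, .k, .a, .c, .e, .h, .g, .b, .d, .f, .c, .e, .h, .g, .l, .b, .d, .f, .j, .k, .a, .c, .e, .h, .g, .b, .d, .f, .i, .c, .e, .h, .d, .h, .e, .c, .i, .f, .d, .b, .g, .h, .e, .c, .a, .k, .j, .f, .d, .b, .l, .g, .h, .e, .c, .f, .d, .b, .g, .h, .e, .c, .a, .k, .j, .f, .d, .b, .l, .g, .e, .c, .a, .k, .d, .b, .l, .h]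

def d3w : List Gen := [.h, .l, .d, .f, .j, .k, .a, .c, .e, .h, .g, .b, .d, .f, .j, .k, .a, .c, .e, .h, .g, .b, .d, .f, .c, .e, .h, .g, .l, .b, .d, .f, .j, .k, .a, .c, .e, .h, .g, .b, .d, .f, .i, .c, .e, .h, .d, .h, .e, .c, .i, .f, .d, .b, .g, .h, .e, .c, .a, .k, .j, .f, .d, .b, .l, .g, .h, .e, .c, .f, .d, .b, .g, .h, .e, .c, .a, .k, .j, .f, .d, .b, .g, .h, .e, .c, .a, .k, .j, .f, .d, .l, .h]

def cw : List Gen := [.j, .g, .f, .e, .h, .d, .c, .b, .a, .k, .b, .c, .e, .d, .j, .g, .f, .e, .h, .d, .c, .b, .a, .l, .e, .d, .f, .e, .h, .d, .c, .g, .f, .e, .d, .j, .g, .f, .e, .h, .d, .c, .b, .e, .d, .f, .e, .h, .d, .c, .e, .d, .j, .g, .f, .e, .h, .f, .g, .j]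

def cv : List Gen := [.j, .g, .f, .h, .e, .f, .g, .j, .d, .e, .c, .d, .h, .e, .f, .d, .e, .b, .c, .d, .h, .e, .f, .g, .j, .d, .e, .f, .g, .c, .d, .h, .e, .f, .d, .e, .l, .a, .b, .c, .d, .h, .e, .f, .g, .j, .d, .e, .c, .b, .k, .a, .b, .c, .d, .h, .e, .f, .g, .j]

def sw : List Gen := [.a, .l, .c, .e, .g]

def q0 : List (ℕ × ℕ) := [(4, 0xb),
  (3864, 0xb75c869b6),
  (2355, 0xb75c64b56),
  (12697, 0xb75c8649b6),
  (12693, 0xb75c864b76),
  (12701, 0xb75c8649b76),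
  (12688, 0xb75c864b36),
  (12699, 0xb75c8649b56),
  (307472, 0x64b732815),
  (306768, 0x64b732c61b5),
  (5813, 0x869b5ac64b77),
  (5811, 0x869b5ac64b57),
  (266036, 0x64b732c86b75),
  (266034, 0x64b732c86b55),
  (266044, 0x64b732c869b75),
  (266004, 0x64b732c861b75),
  (1072, 0xb75c869b7a86),
  (2056, 0xb75c869b7a8696),
  (178, 0xb75c64b5346),
  (296244, 0xb75c8649b732a6),
  (306480, 0xb75c64b53246),
  (3253, 0xb75c864756b6),
  (1733, 0xb75c864b5676),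
  (1447, 0xb75c86b76456),
  (296242, 0xb75c8649b532a6),
  (306448, 0xb75c64b532416),
  (3261, 0xb75c8649756b6),
  (12713, 0xb75c8649b7566),
  (789, 0xb75c864975a6b6),
  (12729, 0xb75c8649b756b6),
  (5817, 0xb75c8649b75a6b6),
  (12709, 0xb75c864b75676),
  (306088, 0xb75c8649b53266),
  (300024, 0xb75c8649b732a896),
  (306056, 0xb75c8649b532616),
  (12725, 0xb75c864b756b76),
  (4221, 0xb75c869b7a864976),
  (307506, 0xb75c86475326b6),
  (12720, 0xb75c864b756b36),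
  (9019, 0xb75c864975a869b6),
  (266033, 0xb75c864b75326b6),
  (265985, 0xb75c864b7532616),
  (5819, 0xb75c8649b75a6b56),
  (296225, 0xb75c8649b7532a66),
  (2653, 0xb75c86497586b76)]

def q1 : List (ℕ × ℕ) := [(265993, 0xb75c8649b7532616),
  (266041, 0xb75c8649b75326b6),
  (294516, 0xb75c8649b7532a46),
  (12773, 0xb75c8649b75a8676),
  (9015, 0xb75c864975a86b76),
  (5845, 0xb75c8649b7586b76),
  (266009, 0xb75c8649b753261b6),
  (305362, 0xb75c64b53264156),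
  (5843, 0xb75c8649b7586b56),
  (12789, 0xb75c8649b75a86b76),
  (305398, 0xb75c64b53264136),
  (12779, 0xb75c8649b75a86956),
  (266035, 0xb75c864b75326b56),
  (12795, 0xb75c8649b75a869b56),
  (12792, 0xb75c8649b75a869b36),
  (302137, 0xb75c86497532a869b6),
  (266072, 0xb75c8649b7532a8619b6),
  (10708, 0xb75c864b75364b76),
  (296252, 0xb75c8649b753286b76),
  (32820, 0xb75c864b753264b76),
  (266068, 0xb75c8649b7532a861b76),
  (32818, 0xb75c864b753264b56),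
  (2964, 0xb75c8649b753a64b76),
  (32828, 0xb75c8649b753264b76),
  (32788, 0xb75c864b7532641b76),
  (266108, 0xb75c8649b7532a869b76),
  (32796, 0xb75c8649b7532641b76),
  (208506, 0xb75c8649b7532a64b56),
  (32825, 0xb75c8649b753264b36),
  (208474, 0xb75c8649b7532a641b56),
  (208498, 0xb75c86497532864b56),
  (32988, 0xb75c8649b7532a86419b76),
  (12825, 0xb75c8649b756b7896),
  (9075, 0xb75c869b7a864756b6),
  (300025, 0xb75c864b75326b7896),
  (12859, 0xb75c8649b75a6b78956),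
  (266073, 0xb75c8649b753261b7896),
  (7475, 0xb75c8649b75a869b7586),
  (9108, 0xb75c8649b75a86b7546),
  (2034, 0xb75c864b75364b566),
  (7577, 0xb75c8649b75a869b75c6b6),
  (290905, 0xb75c86497532a8619b766),
  (290909, 0xb75c8649b7532a8619b766),
  (10845, 0xb75c8649b75a6b7384976),
  (186, 0xb75c8649b753864756b6)]

def q2 : List (ℕ × ℕ) := [(306486, 0xb75c8649b7532864756b6),
  (1078, 0xb75c8649b753a864756b6),
  (3000, 0xb75c8649b753864b756b6),
  (208733, 0xb75c8649b7532864b75c6b6),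
  (298238, 0xb75c8649b7532a8649756b6),
  (10965, 0xb75c8649b753a864b75c6b6),
  (3890, 0xb75c8649b7538647586b6),
  (298206, 0xb75c8649b7532a86419756b6),
  (208765, 0xb75c8649b75328641b75c6b6),
  (33976, 0xb75c8649b7532a8649b756b6),
  (3898, 0xb75c8649b75386475869b6),
  (33973, 0xb75c8649b7532a8641b75c6b6),
  (10993, 0xb75c8649b753a864b7586b6),
  (304146, 0xb75c8649b753286417586b6),
  (208729, 0xb75c8649b7532864b75c6b76),
  (247088, 0xb75c8649b7532a86497586b6),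
  (34104, 0xb75c8649b7532864b75869b6),
  (3992, 0xb75c8649b753a864975869b6),
  (34929, 0xb75c8649b75328641b75c86b6),
  (34072, 0xb75c8649b75328641b75869b6),
  (11257, 0xb75c8649b753a8649b75c869b6),
  (35577, 0xb75c8649b7532a8641b75c869b6),
  (304150, 0xb75c8649b753286417586b76),
  (37081, 0xb75c8649b7532a8649b75c869b6),
  (37113, 0xb75c8649b7532a86419b75c869b6),
  (34106, 0xb75c8649b7532864b75869b56),
  (247060, 0xb75c8649b7532a864197586b76),
  (13297, 0xb75c8649b753a864b7564b36),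
  (208981, 0xb75c8649b7532864b75c64b36),
  (34936, 0xb75c8649b75328641b75c869b36),
  (13305, 0xb75c8649b753a8649b7564b36),
  (13233, 0xb75c8649b75386475864b36),
  (14324, 0xb75c8649b753a8649b75864b76),
  (38196, 0xb75c8649b732a867564b75c6b76),
  (11472, 0xb75c8649b753a86497586b7c6b6),
  (11480, 0xb75c8649b753a864975869b7c6b6),
  (3121, 0xb75c8649b753a864975869b7ac6b6),
  (3764, 0xb75c8649b753a8649b75c86b7c6b6),
  (3760, 0xb75c8649b753a8649b7586b7c86b6),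
  (11481, 0xb75c8649b753a864975869b7ac86b6),
  (3768, 0xb75c8649b753a8649b7586b7c869b6),
  (42490, 0xb75c8649b7532a864975869b7c6b56),
  (229396, 0xb75c8649b7532a86419b7586b7c86b6),
  (229436, 0xb75c8649b7532a8649b7586b7c869b6),
  (11473, 0xb75c8649b753a864975869b7ac869b6)]

def q3 : List (ℕ × ℕ) := [(11569, 0xb75c8649b753864b7586b75c86b6),
  (47033, 0xb75c8649b75328641b75c869b75c6b6),
  (248242, 0xb75c8649b7532a864b7564b75c6b6),
  (301810, 0xb75c8649b7532864b7586b75c6b56),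
  (301786, 0xb75c8649b7532864b7586b75c6b36),
  (301778, 0xb75c8649b75328641b7586b75c6b56),
  (47544, 0xb75c8649b7532864b758649b75c6b6),
  (43388, 0xb75c8649b7532864175864b75c6b76),
  (16882, 0xb75c8649b753a864b75864b75c6b56),
  (229618, 0xb75c8649b7532a864b7586b75c64b56),
  (51415, 0xb75c8649b7532864b75c869b75c64b56),
  (17714, 0xb75c8649b753a864b75864b75c86b56),
  (59441, 0xb75c8649b753a8649758649b732ac8619b6),
  (54937, 0xb75c8649b7532a86419b758649b75c6b36)]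

def q4 : List (ℕ × ℕ) := [(12691, 0xb75c864b56),
  (307474, 0xb75c864753261b6),
  (12728, 0xb75c8649b756b36),
  (296241, 0xb75c8649b7532a6b6),
  (296209, 0xb75c8649b7532a61b6),
  (189476, 0xb75c64b53286476),
  (3548, 0xb75c864975364b6),
  (307090, 0xb75c86497532861b6),
  (10706, 0xb75c864b75364b56),
  (32794, 0xb75c8649b7532641b56),
  (10771, 0xb75c8649b753a864b56),
  (4283, 0xb75c864975a869b7656),
  (403, 0xb75c8649b753a64b566),
  (33949, 0xb75c8649b7532a8649b75c6b6),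
  (10961, 0xb75c8649b753a864b75c6b76),
  (246872, 0xb75c8649b7532a864175869b6),
  (42484, 0xb75c8649b7532a8649b7586b7c6b6),
  (54993, 0xb75c8649b7532a8649b75c869b7c869b6),
  (47512, 0xb75c8649b75328641b758649b75c6b6),
  (273424, 0xb75c8649b7532a86419b758649b7532c86b6)]

def q5 : List (ℕ × ℕ) := [(2645, 0x64b75),
  (12696, 0xb75c8649b36),
  (266040, 0x64b732c869b5),
  (266008, 0x64b732c8619b5),
  (65, 0xb75c869b7a66),
  (404, 0xb75c869b78676),
  (308129, 0xb75c64b53266),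
  (308097, 0xb75c64b532616),
  (12733, 0xb75c8649b756b76),
  (389, 0xb75c64b536476),
  (305394, 0xb75c64b5326456),
  (302129, 0xb75c86497532a86b6),
  (296245, 0xb75c8649b7532a6b76),
  (33941, 0xb75c8649b7532a864b75c6b6),
  (304186, 0xb75c8649b753286475869b6),
  (11253, 0xb75c8649b753a8649b75c86b76),
  (7537, 0xb75c8649b753a8647564b36),
  (36308, 0xb75c8649b75328641b753864b76),
  (42460, 0xb75c8649b7532a86419b75869b7c6b6),
  (11801, 0xb75c8649b753a8649b75869b7c869b6)]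

def q6 : List (ℕ × ℕ) := [(3856, 0xb75c86b6),
  (9624, 0xb75c8649b753864b7564b75c869b6),
  (48538, 0xb75c8649b7532a8649b75c64b7532c6b6)]

def q7 : List (ℕ × ℕ) := [(177, 0xb75c6b6),
  (246641, 0xb75c64b5328436)]

/-- the data -/
noncomputable def D : Data where
  p := 11
  xw := xw
  c := .d
  u := [.h, .d, .i, .c, .e, .h, .g, .b, .d, .f, .c, .e, .h, .b, .d, .f, .a, .c, .e, .h, .g, .b, .d, .f, .i, .c, .e, .h]
  p0 := 16440
  gI := [1, 1, 3, 1, 3, 1]
  gZ := [3, 1, 3, 1]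
  Gs := [([1, 2], q0), ([1, 2], q1), ([1, 2], q2), ([1, 2], q3), ([1, 3], q4), ([2, 1], q5), ([2, 3], q6), ([4, 1], q7)]
  good := [0, 176, 16440, 42876, 53110]
  ws := [[rep 1 xw, rep 2 xw], [rep 3 xw, rep 6 xw, rep 9 xw], [rep 1 w9, rep 1 w4, rep 1 w3, rep 1 w5], [rep 1 [.i]], [rep 1 d2w], [rep 1 d3w], [rep 1 cw, rep 1 cv], [rep 1 sw]]
  ls := [[1, 1, 1, 0, 1, 0, 1, 1, 0, 2, 2, 2, 0, 2, 2, 2, 2, 0, 2, 2, 2, 0, 1, 1, 1, 1, 0, 2, 2, 2, 0, 2, 2, 2, 2],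
    [1, 1, 1, 0, 1, 0, 1, 1, 0, 2, 2, 2, 0, 2, 2, 2, 2, 0, 2, 2, 2, 0, 1, 1, 1, 1, 0, 2, 2, 2, 0, 2, 2, 2, 2],
    [1, 1, 1, 1, 1, 0, 2, 2, 2, 2, 0, 2, 2, 0, 2, 0, 2, 0, 1, 1, 1, 1, 0, 1, 1, 1, 1, 0, 1, 0, 1, 1, 1],
    [0, 1, 0, 2, 2, 2, 0, 2, 2, 2, 0, 2, 0, 2, 0, 2, 2, 2, 0, 2, 2, 2, 0, 2, 0, 2, 2, 2],
    [0, 2, 2, 2, 2, 2, 0, 2, 0, 2, 2, 2, 0, 2, 2, 2, 2, 0, 2, 2, 2, 0, 2, 0, 1, 1, 1, 1, 0, 1, 0, 1, 1, 1, 1, 0, 1, 1, 1],
    [1, 0, 2, 2, 2, 2, 0, 1, 1, 1, 0, 1, 1, 1, 1, 0, 2, 2, 2, 0, 2, 2, 2, 0, 2, 2, 2, 0, 2, 2, 2, 2],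
    [2, 0, 2, 0, 2, 2, 2, 0, 2, 2, 2, 2, 0, 1, 1, 1, 0, 1, 1, 1, 0, 1, 1, 1, 0, 1, 1, 1, 1],
    [0, 1, 0, 2, 2, 2, 2, 0, 2, 2, 0, 2, 2, 0, 2, 2, 2, 0, 2, 0, 1, 1, 1, 1, 0, 1, 0, 1, 1, 1, 1, 0, 1, 1, 1],
    [2, 0, 1, 1, 1, 1, 1, 0, 1, 0, 1, 1, 0, 1, 1, 0, 1, 1, 0, 2, 2, 2, 0, 2, 2, 2, 0, 2, 0, 2, 2, 2],
    [0, 2, 2, 2, 2, 0, 2, 2, 0, 2, 0, 2, 0, 1, 1, 1, 1, 0, 1, 1, 1, 1, 0, 1, 0, 1, 1, 1],
    [0, 2, 2, 0, 2, 0, 1, 1, 1, 0, 1, 1, 1, 1, 0, 2, 2, 2, 0, 1, 1, 1, 1, 0, 2, 2, 2, 0, 2, 2, 2, 2],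
    [1, 1, 1, 0, 1, 1, 0, 1, 0, 1, 0, 1, 1, 1, 0, 1, 1, 1],
    [0, 1, 1, 1, 0, 1, 1, 1, 0, 1, 1, 0, 1, 1, 1, 0, 1, 0, 1, 1, 1, 0, 1, 1, 1, 1, 0, 1, 1, 1, 1, 0, 2, 2, 2, 0, 2, 2, 2, 2]]

theorem hp : chkEq (rep 11 xw) [] = true := by decide +kernel

theorem hu : chkPt (nw D.u false) (pn D.c) D.p0 = true := by decide +kernel

theorem hI : goI (nw D.xw.reverse false) (nw D.u false) (nw [D.c] false) D.gI D.p0 = true := by decide +kernel

theorem hZ : goZ (nw D.xw.reverse false) (nw D.u false) (nw [D.c] false) D.gZ D.p0 = true := by decide +kernel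

theorem hit0 : hitB D.p (sums 0 D.gI) (sums 0 D.gZ) [1, D.p - 1] = true := by decide +kernel

theorem hit : (D.Gs.all fun G => hitB D.p (sums 0 D.gI) (sums 0 G.1) []) = true := by decide +kernel

theorem gen : genB (D.u ++ D.c :: D.u.reverse) D.xw D.p0 D.ls = true := by decide +kernel

/-! ### The covering -/

theorem s0 : Nat.beq (cov [[rep 1 xw, rep 2 xw], [rep 3 xw, rep 6 xw, rep 9 xw]] (msk ((D.Gs.flatMap fun G => G.2.map Prod.fst) ++ D.good))) m0 = true := by decide +kernel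

theorem s1 : Nat.beq (cov [[rep 1 w9, rep 1 w4, rep 1 w3, rep 1 w5]] m0) m1 = true := by decide +kernel

theorem s2 : Nat.beq (cov [[rep 1 [.i]], [rep 1 d2w], [rep 1 d3w]] m1) m2 = true := by decide +kernel

theorem s3 : Nat.beq (cov [[rep 1 cw, rep 1 cv]] m2) m3 = true := by decide +kernel

theorem s4 : Nat.beq (Nat.land UG (cov [[rep 1 sw]] m3)) UG = true := by decide +kernel

theorem covering : Cv D.ws (msk ((D.Gs.flatMap fun G => G.2.map Prod.fst) ++ D.good)) UG :=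
  (Cv.app (Cv.of s0) (Cv.app (Cv.of s1) (Cv.app (Cv.of s2) (Cv.app (Cv.of s3) (Cv.last s4)))))

/-! ### The certificates -/

theorem c0 : chkL (nw D.xw.reverse false) [1, 2] q0 = true := by decide +kernel

theorem c1 : chkL (nw D.xw.reverse false) [1, 2] q1 = true := by decide +kernel

theorem c2 : chkL (nw D.xw.reverse false) [1, 2] q2 = true := by decide +kernel

theorem c3 : chkL (nw D.xw.reverse false) [1, 2] q3 = true := by decide +kernel

theorem c4 : chkL (nw D.xw.reverse false) [1, 3] q4 = true := by decide +kernel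

theorem c5 : chkL (nw D.xw.reverse false) [2, 1] q5 = true := by decide +kernel

theorem c6 : chkL (nw D.xw.reverse false) [2, 3] q6 = true := by decide +kernel

theorem c7 : chkL (nw D.xw.reverse false) [4, 1] q7 = true := by decide +kernel

theorem ok : D.Ok where
  hp := by
    show word xw ^ 11 = 1
    rw [← word_rep]
    exact word_eq_of hp
  hu := hu
  hI := hI
  hZ := hZ
  hit0 := hit0
  hit := List.all_eq_true.1 hit
  cert := (List.forall_mem_cons.2 ⟨c0, (List.forall_mem_cons.2 ⟨c1, (List.forall_mem_cons.2 ⟨c2, (List.forall_mem_cons.2 ⟨c3, (List.forall_mem_cons.2 ⟨c4, (List.forall_mem_cons.2 ⟨c5, (List.forall_mem_cons.2 ⟨c6, (List.forall_mem_cons.2 ⟨c7, (fun _ h => absurd h (by simp))⟩)⟩)⟩)⟩)⟩)⟩)⟩)⟩)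
  covering := covering
  gen := gen


/-- `w9 x w9⁻¹ = x ^ 9` -/
theorem h9 : chkEq (w9 ++ xw) (rep 2 xw.reverse ++ w9) = true := by decide +kernel

/-- `w4 x w4⁻¹ = x ^ 4` -/
theorem h4 : chkEq (w4 ++ xw) (rep 4 xw ++ w4) = true := by decide +kernel

/-- `w3 x w3⁻¹ = x ^ 3` -/
theorem h3 : chkEq (w3 ++ xw) (rep 3 xw ++ w3) = true := by decide +kernel

/-- `w5 x w5⁻¹ = x ^ 5` -/
theorem h5 : chkEq (w5 ++ xw) (rep 5 xw ++ w5) = true := by decide +kernel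

/-- `w9 ^ 5 = 1` -/
theorem h95 : chkEq (rep 5 w9) [] = true := by decide +kernel

theorem hi : chkEq ([.i] ++ xw) (xw ++ [.i]) = true := by decide +kernel

/-- `c` commutes with `x` -/
theorem hc : chkEq (cw ++ xw) (xw ++ cw) = true := by decide +kernel

theorem hcv : chkEq (cv ++ xw) (xw ++ cv) = true := by decide +kernel

/-- `c ^ 3 = 1` -/
theorem hc3 : chkEq (rep 3 cw) [] = true := by decide +kernel

/-- `s` inverts `x` -/
theorem hs : chkEq (sw ++ xw) (xw.reverse ++ sw) = true := by decide +kernel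

def u2 : List Gen := [.h, .l, .b, .d, .k, .a, .c, .e, .g, .l, .b, .d, .f, .j, .k, .a, .c, .e, .h, .g, .b, .d, .f, .c, .e, .h, .g, .l, .b, .d, .f, .j, .k, .a, .c, .e, .h, .g, .b, .d, .f, .i, .c, .e, .h]
def u3 : List Gen := [.h, .l, .d, .f, .j, .k, .a, .c, .e, .h, .g, .b, .d, .f, .j, .k, .a, .c, .e, .h, .g, .b, .d, .f, .c, .e, .h, .g, .l, .b, .d, .f, .j, .k, .a, .c, .e, .h, .g, .b, .d, .f, .i, .c, .e, .h]

theorem p2 : chkPt (nw u2 false) (pn .d) 186102 = true := by decide +kernel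
theorem p3 : chkPt (nw u3 false) (pn .d) 186073 = true := by decide +kernel

/-- the fixed points of `x` -/
theorem sieve : Nat.beq (sv (nw xw false) bl Fischer.Fi24RepOrb.UG) (msk [176, 186102, 186073]) = true := by
  decide +kernel

/-- the action of `i, d2` on the three points -/
theorem comm : (chkPt (nw [.i] false) 186102 186102 && chkPt (nw [.i] false) 186073 186073 &&
    chkPt (nw d2w false) 186073 186073) = true := by decide +kernel

/-- the action of `x, w9, c, s` on the three points -/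
theorem ax : (chkPt (nw xw false) 176 176 && chkPt (nw xw false) 186102 186102 &&
    chkPt (nw xw false) 186073 186073) = true := by decide +kernel
theorem ag : (chkPt (nw w9 false) 176 176 && chkPt (nw w9 false) 186102 186102 &&
    chkPt (nw w9 false) 186073 186073) = true := by decide +kernel
theorem ac : (chkPt (nw cw false) 176 186102 && chkPt (nw cw false) 186102 186073 &&
    chkPt (nw cw false) 186073 176) = true := by decide +kernel
theorem as : (chkPt (nw sw false) 176 176 && chkPt (nw sw false) 186102 186073 &&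
    chkPt (nw sw false) 186073 186102) = true := by decide +kernel


end Cfsg.Agent.H843.D11
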