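import Cfsg.Agent.H570.Ore.Blk
import Cfsg.Agent.H256.Sep.FiData

/-!
# The degrees of the irreducible characters of `Fi24` modulo 29 (helper843)

All the nontrivial elements of a subgroup of order 29 of `Fi24` are conjugate, so the degrees are `0`, `± 1` modulo 29.
-/

set_option autoImplicit false

open Cfsg Subgroup

namespace Cfsg.Agent.H843.Fi24Ext

open Cfsg.Agent.SmallSimple.ThetaSetup
open Cfsg.Spor (Fi24)

theorem not_sq : ¬ 29 ^ 2 ∣ Nat.card Fi24 := by
  rw [H256.Sep.FiData.card_Fi24]; norm_num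

theorem dvd : 29 ∣ Nat.card Fi24 := by
  rw [H256.Sep.FiData.card_Fi24]; norm_num

theorem card_P [Fact (Nat.Prime 29)] (P : Sylow 29 Fi24) : Nat.card P = 29 := by
  have : Finite Fi24 := Cfsg.Agent.R08.FiTwentyFour.finite_Fi24
  have h := P.card_eq_multiplicity
  have h1 : (Nat.card Fi24).factorization 29 = 1 := by
    have h29 : Nat.Prime 29 := Fact.out
    apply le_antisymm
    · by_contra hlt
      exact not_sq ((Nat.Prime.pow_dvd_iff_le_factorization h29 Nat.card_pos.ne').2 (by omega))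
    · exact (Nat.Prime.dvd_iff_one_le_factorization h29 Nat.card_pos.ne').1 dvd
  rw [h1, pow_one] at h
  exact h

theorem card_C [Fact (Nat.Prime 29)] (P : Sylow 29 Fi24) :
    Nat.card (centralizer ((P : Subgroup Fi24) : Set Fi24)) = 29 ∧
      (centralizer ((P : Subgroup Fi24) : Set Fi24)).relIndex (normalizer ((P : Subgroup Fi24) : Set Fi24)) = 28 := by
  have : Finite Fi24 := Cfsg.Agent.R08.FiTwentyFour.finite_Fi24
  have hsq : ¬ 29 ^ 2 ∣ Nat.card Fi24 := not_sq
  obtain ⟨g, hg⟩ := H843.Syl.exists_conj (by norm_num : Nat.Prime 29) hsq (zpowers D29.D.x) (P : Subgroup Fi24)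
    (by rw [Nat.card_zpowers, D29.order]) (card_P P)
  have hC : Nat.card (centralizer ((P : Subgroup Fi24) : Set Fi24)) = 29 := by
    rw [← hg]
    have h1 := H841.Transport.map_centralizer (MulAut.conj g) ((zpowers D29.D.x : Subgroup Fi24) : Set Fi24)
    rw [H841.Transport.coe_map, ← h1, H841.Transport.card_map]
    exact D29.main.2
  have hN : Nat.card (normalizer ((P : Subgroup Fi24) : Set Fi24)) = 28 * 29 := by
    rw [← hg]
    rw [← H841.Transport.map_normalizer, H841.Transport.card_map]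
    exact D29.main.1
  refine ⟨hC, ?_⟩
  have h2 := Subgroup.card_mul_index ((centralizer ((P : Subgroup Fi24) : Set Fi24)).subgroupOf
    (normalizer ((P : Subgroup Fi24) : Set Fi24)))
  rw [Nat.card_congr (Subgroup.subgroupOfEquivOfLe (centralizer_le_normalizer _)).toEquiv, hC, hN] at h2
  have h3 : 29 * (centralizer ((P : Subgroup Fi24) : Set Fi24)).relIndex (normalizer ((P : Subgroup Fi24) : Set Fi24)) =
      28 * 29 := h2
  omega

/-- **The degrees modulo 29.** -/
theorem residue (χ : IrrCharacter Fi24) : (29 : ℤ) ∣ charDegree (χ : Fi24 → ℂ) ∨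
    (29 : ℤ) ∣ charDegree (χ : Fi24 → ℂ) - 1 ∨ (29 : ℤ) ∣ charDegree (χ : Fi24 → ℂ) + 1 := by
  have : Finite Fi24 := Cfsg.Agent.R08.FiTwentyFour.finite_Fi24
  have hF : Fact (Nat.Prime 29) := ⟨by norm_num⟩
  let P : Sylow 29 Fi24 := default
  obtain ⟨hC, he⟩ := card_C P
  obtain ⟨K, hK⟩ := exists_isComp P (card_P P)
  have hnd := hK.not_dvd_card
  have hdv : Nat.card K ∣ 29 := hC ▸ Subgroup.card_dvd_of_le hK.le
  have hK1 : Nat.card K = 1 := by
    rcases (Nat.dvd_prime hF.out).1 hdv with h | h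
    · exact h
    · exact absurd (dvd_of_eq h.symm) hnd
  rcases H570.Ore.Blk.residue hK (card_P P) (by rw [hK1]; norm_num) he (t := 1) (by norm_num) χ with h | h | h | ⟨h | h, -⟩
  · exact Or.inl h
  · exact Or.inr (Or.inl h)
  · exact Or.inr (Or.inr h)
  · right; right
    push_cast at h
    omega
  · right; left
    push_cast at h
    omega

/-- **No degree is `14` or `15` modulo 29.** -/
theorem no_ext (χ : IrrCharacter Fi24) : charDegree (χ : Fi24 → ℂ) % 29 ≠ 14 ∧ charDegree (χ : Fi24 → ℂ) % 29 ≠ 15 := by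
  have := residue χ
  constructor <;> intro h <;> omega

end Cfsg.Agent.H843.Fi24Ext
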