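import Cfsg.Agent.H843.FiMax.Abs
import Cfsg.Agent.H332.BabyUpper
import Cfsg.Agent.S1697
import Cfsg.Agent.S1704
import Cfsg.Agent.KFacts.FiTTh.Has

/-!
# `Fi23` with trivial centralizer is a maximal subgroup of `B` (helper843)
-/

set_option autoImplicit false

namespace Cfsg.Agent.H843.Fi23Max

open Subgroup Cfsg Cfsg.Agent.H940.Eng Cfsg.Agent.H940.Eng.D

/-- **A subgroup of `B` isomorphic to `Fi23` with trivial centralizer is maximal** (given the classification). -/
theorem coatom_of (B : Base) {K : Subgroup Cfsg.Spor.BabyMonster} (hK : Cfsg.Spor.IsoFi23 K)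
    (hC : Subgroup.centralizer (K : Set Cfsg.Spor.BabyMonster) = ⊥) : IsCoatom K := by
  have hfin := Cfsg.Agent.H848.MonsterSetup.finite
  have hB := Cfsg.Agent.S1704.result
  have hBc : Nat.card Cfsg.Spor.BabyMonster = n_b := hB.2
  have : Finite Cfsg.Spor.BabyMonster := Nat.finite_of_card_ne_zero (by rw [hBc]; decide +kernel)
  have hF := Cfsg.Agent.S1697.result
  obtain ⟨f⟩ := hK
  have hFs : IsSimpleGroup Cfsg.Spor.Fi23 := hF.1
  have hKs : IsSimpleGroup ↥K := f.isSimpleGroup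
  refine Cfsg.Agent.H843.FiMax.coatom_abs hBc (ords_b B) Cfsg.Agent.H332.BabyUpper.baby_le hKs
    ((Nat.card_congr f.toEquiv).trans hF.2) hC fun φ => ?_
  obtain ⟨g, hg⟩ := Cfsg.Agent.KFacts.FiTTh.Has.inn ((f.symm.trans φ).trans f)
  refine ⟨f.symm g, MulEquiv.ext fun x => ?_⟩
  have h1 := congrArg (fun ψ : MulAut Cfsg.Spor.Fi23 => ψ (f x)) hg
  have h2 : f (φ (f.symm (f x))) = g * f x * g⁻¹ := h1
  rw [f.symm_apply_apply] at h2
  rw [MulAut.conj_apply]
  apply f.injective
  rw [h2, map_mul, map_mul, map_inv, f.apply_symm_apply]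

end Cfsg.Agent.H843.Fi23Max
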