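import Cfsg.Agent.H843.Fi23Max
import Cfsg.Agent.H940.MCEnd

/-!
# `Fi23` with trivial centralizer is a maximal subgroup of `B` (helper843)
-/

set_option autoImplicit false

namespace Cfsg.Agent.H843.Fi23Max

/-- **A subgroup of `B` isomorphic to `Fi23` with trivial centralizer is maximal.** -/
theorem coatom {K : Subgroup Cfsg.Spor.BabyMonster} (hK : Cfsg.Spor.IsoFi23 K)
    (hC : Subgroup.centralizer (K : Set Cfsg.Spor.BabyMonster) = ⊥) : IsCoatom K :=
  coatom_of Cfsg.Agent.H940.MaxCls.base hK hC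

end Cfsg.Agent.H843.Fi23Max
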