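import Cfsg.Agent.H792.SpTool

/-!
# Extensions: a class containing the kernel (helper843)

`all_of_ker` : `f : G → K` with kernel a `p`-group contained in the class `P`, `FullP p f.range`, an element of `P` outside the
kernel: all `p`-elements of `G` are in `P`.
-/

set_option autoImplicit false

namespace Cfsg.Agent.H843.FullExt

open Subgroup Cfsg Cfsg.Agent.H749

variable {p : ℕ} [hp : Fact p.Prime] {G K : Type*} [Group G] [Group K] [Finite G]

omit hp [Finite G] in
/-- the images of the elements of a class containing the kernel -/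
theorem pcl_map (f : G →* K) (hf : Function.Surjective f) (hkp : IsPGroup p f.ker) {P : G → Prop} (hP : PCl p P) :
    PCl p (fun z => ∃ y : G, PEl p y ∧ f y = z ∧ P y) where
  one := ⟨1, PEl.one, map_one f, hP.one⟩
  inv := fun {x} ⟨y, h1, h2, h3⟩ => ⟨y⁻¹, h1.inv, by rw [map_inv, h2], hP.inv h3⟩
  conj := fun {x} g ⟨y, h1, h2, h3⟩ => by
    obtain ⟨g', rfl⟩ := hf g
    exact ⟨g' * y * g'⁻¹, h1.conj g', by rw [map_mul, map_mul, map_inv, h2], hP.conj g' h3⟩
  mul := fun {R} hR {x y} hx hy h1 h2 => by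
    have hQ : IsPGroup p (R.comap f) := hR.comap_of_ker_isPGroup f hkp
    obtain ⟨a, ha, ha1, ha2⟩ := h1
    obtain ⟨b, hb, hb1, hb2⟩ := h2
    have haQ : a ∈ R.comap f := by rw [mem_comap, ha1]; exact hx
    have hbQ : b ∈ R.comap f := by rw [mem_comap, hb1]; exact hy
    exact ⟨a * b, PEl.of_isPGroup hQ (mul_mem haQ hbQ), by rw [map_mul, ha1, hb1], hP.mul hQ haQ hbQ ha2 hb2⟩

omit hp [Finite G] in
/-- **a class containing the kernel** -/
theorem all_of_surj (f : G →* K) (hf : Function.Surjective f) (hkp : IsPGroup p f.ker) (h : FullP p K)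
    {P : G → Prop} (hP : PCl p P) (hk : ∀ z, f z = 1 → P z) {x : G} (hx : PEl p x) (hx1 : f x ≠ 1) (hPx : P x)
    {y : G} (hy : PEl p y) : P y := by
  obtain ⟨t, ht, hty, hPt⟩ := h _ (pcl_map f hf hkp hP) ⟨f x, hx.map f, hx1, x, hx, rfl, hPx⟩ (f y) (hy.map f)
  have hQ : IsPGroup p ((zpowers (f y)).comap f) := (isPGroup_zpowers (hy.map f)).comap_of_ker_isPGroup f hkp
  have h1 : t ∈ (zpowers (f y)).comap f := by rw [mem_comap, hty]; exact mem_zpowers _
  have h2 : y ∈ (zpowers (f y)).comap f := mem_zpowers _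
  have h3 : P (t * (t⁻¹ * y)) := hP.mul hQ h1 (mul_mem (inv_mem h1) h2) hPt (hk _ (by
    rw [map_mul, map_inv, hty, inv_mul_cancel]))
  rwa [mul_inv_cancel_left] at h3

omit hp [Finite G] in
/-- **a class containing the kernel** -/
theorem all_of_ker (f : G →* K) (hkp : IsPGroup p f.ker) (h : FullP p f.range)
    {P : G → Prop} (hP : PCl p P) (hk : ∀ z, f z = 1 → P z) {x : G} (hx : PEl p x) (hx1 : f x ≠ 1) (hPx : P x)
    {y : G} (hy : PEl p y) : P y := by
  refine all_of_surj f.rangeRestrict f.rangeRestrict_surjective ?_ h hP ?_ hx ?_ hPx hy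
  · rwa [MonoidHom.ker_rangeRestrict]
  · intro z hz
    exact hk z (congrArg Subtype.val hz)
  · intro h1
    exact hx1 (congrArg Subtype.val h1)

/-- subgroups of index prime to `p` -/
theorem all_of_subgroup {P : G → Prop} (hP : PCl p P) (H : Subgroup G) (hH : ¬ p ∣ H.index)
    (h : ∀ x ∈ H, PEl p x → P x) {y : G} (hy : PEl p y) : P y := by
  obtain ⟨g, hg⟩ := exists_conj_mem H hH hy
  exact hP.of_conj (h _ hg (hy.conj g))

/-- **A normal subgroup contained in the class with a quotient whose Sylow `p`-subgroups have order at most `p`** -/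
theorem all_of_small {Q : Type*} [Group Q] [Finite Q] (f : G →* Q) (hQ : ¬ p ^ 2 ∣ Nat.card Q) {P : G → Prop}
    (hP : PCl p P) (hk : ∀ z, PEl p z → f z = 1 → P z) {x : G} (hx : PEl p x) (hx1 : f x ≠ 1) (hPx : P x)
    {y : G} (hy : PEl p y) : P y := by
  obtain ⟨S⟩ : Nonempty (Sylow p G) := inferInstance
  obtain ⟨g, hg⟩ := H792.SpTool.exists_conj S hx
  refine H792.SpTool.all_of_sylow hP S (fun s hs => ?_) hy
  set t := g * x * g⁻¹ with ht
  have hPt : P t := hP.conj g hPx
  have ht1 : f t ≠ 1 := by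
    rw [ht, map_mul, map_mul, map_inv]
    intro h
    exact hx1 (conj_eq_one_iff.1 h)
  -- the image of `S` has order `p`
  have hT : IsPGroup p ((S : Subgroup G).map f) := S.2.map f
  have hle : zpowers (f t) ≤ (S : Subgroup G).map f := by
    rw [zpowers_le]
    exact ⟨t, hg, rfl⟩
  obtain ⟨n, hn⟩ := IsPGroup.iff_card.mp hT
  have hn2 : n < 2 := by
    by_contra h
    apply hQ
    refine (pow_dvd_pow p (not_lt.1 h)).trans ?_
    rw [← hn]
    exact card_subgroup_dvd_card _
  have hcard : Nat.card ((S : Subgroup G).map f) ≤ Nat.card (zpowers (f t)) := by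
    have h1 : Nat.card (zpowers (f t)) ∣ p ^ n := by rw [← hn]; exact card_dvd_of_le hle
    have h2 : Nat.card (zpowers (f t)) ≠ 1 := by
      rw [Nat.card_zpowers]
      exact fun h => ht1 (orderOf_eq_one_iff.1 h)
    rw [hn]
    interval_cases n
    · rw [pow_zero, Nat.dvd_one] at h1
      exact absurd h1 h2
    · rw [pow_one] at h1 ⊢
      rcases (Nat.dvd_prime hp.out).1 h1 with h3 | h3
      · exact absurd h3 h2
      · exact h3.ge
  have heq := eq_of_le_of_card_ge hle hcard
  have hfs : f s ∈ zpowers (f t) := by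
    rw [heq]
    exact ⟨s, hs, rfl⟩
  obtain ⟨m, hm⟩ := mem_zpowers_iff.1 hfs
  have h1 : (t ^ m)⁻¹ * s ∈ (S : Subgroup G) := mul_mem (inv_mem (zpow_mem hg m)) hs
  have h2 : P ((t ^ m)⁻¹ * s) := hk _ (PEl.of_isPGroup S.2 h1) (by
    rw [map_mul, map_inv, map_zpow, hm, inv_mul_cancel])
  have h3 := hP.mul S.2 (zpow_mem hg m) h1 (hP.zpow (PEl.of_isPGroup S.2 hg) hPt m) h2
  rwa [mul_inv_cancel_left] at h3

omit hp [Finite G] in
/-- an element of order `p` in the class -/
theorem exists_order {P : G → Prop} (hP : PCl p P) {x : G} (hx : PEl p x) (hx1 : x ≠ 1) (hPx : P x) :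
    ∃ y : G, y ^ p = 1 ∧ y ≠ 1 ∧ P y := by
  obtain ⟨k, hk⟩ := hx
  induction k generalizing x with
  | zero => rw [pow_zero, pow_one] at hk; exact absurd hk hx1
  | succ k ih =>
    by_cases h : x ^ p = 1
    · exact ⟨x, h, hx1, hPx⟩
    · refine ih h (hP.pow ⟨k + 1, hk⟩ hPx p) ?_
      rw [← pow_mul, ← pow_succ']
      exact hk

end Cfsg.Agent.H843.FullExt
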