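import Cfsg.Agent.H843.FullExt
import Cfsg.Agent.H841.SevI
import Cfsg.Agent.H840.Lk
import Cfsg.Agent.H843.One

/-!
# A class of `3`-elements of `Fi24'` contains the group `A` of order `3^7` (helper843)
-/

set_option autoImplicit false
set_option maxRecDepth 100000

namespace Cfsg.Agent.H843.FullFi

open Subgroup Cfsg Cfsg.Agent.H749
open Cfsg.Agent.H841.Sev
open Cfsg.Agent.Fischer.Fi24RepDef Cfsg.Agent.Fischer.Fi24Rep
open Cfsg.Agent.R08.FiTwentyFour (L finite_Fi24)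
open Cfsg.Spor (Fi24)
open Cfsg.Spor.Fi24 (Gen)

local instance : Fact (Nat.Prime 3) := ⟨Nat.prime_three⟩

/-- the commutator subgroup -/
abbrev G' : Subgroup Fi24 := commutator Fi24

/-- membership in the class -/
def Pc (P : ↥G' → Prop) (g : Fi24) : Prop := ∃ h : g ∈ G', P ⟨g, h⟩

theorem index_G' : (G').index = 2 := Cfsg.Agent.R08.FiTwentyFour.index_commutator

/-- elements of odd order -/
theorem mem_of_pEl {g : Fi24} (h : PEl 3 g) : g ∈ G' := by
  have : Finite Fi24 := finite_Fi24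
  obtain ⟨k, hk⟩ := h
  refine Fi24N.mem_commutator ?_
  exact (Odd.pow (by decide : Odd 3)).of_dvd_nat (orderOf_dvd_of_pow_eq_one hk)

theorem vec_pEl (v : V) : PEl 3 (vec v) := ⟨1, by rw [pow_one]; exact vec_cube v⟩

theorem vec_mem' (v : V) : vec v ∈ G' := mem_of_pEl (vec_pEl v)

theorem isPGroup_A : IsPGroup 3 A := isPGroup_iff.2 (by rintro _ ⟨v, rfl⟩; exact vec_pEl v)

section cls

variable {P : ↥G' → Prop} (hP : PCl 3 P)

include hP

theorem Pc.one : Pc P 1 := ⟨one_mem _, hP.one⟩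

theorem Pc.inv {g : Fi24} (h : Pc P g) : Pc P g⁻¹ := by
  obtain ⟨h1, h2⟩ := h
  exact ⟨inv_mem h1, hP.inv h2⟩

theorem Pc.conj {g x : Fi24} (hg : g ∈ G') (h : Pc P x) : Pc P (g * x * g⁻¹) := by
  obtain ⟨h1, h2⟩ := h
  exact ⟨mul_mem (mul_mem hg h1) (inv_mem hg), hP.conj (⟨g, hg⟩ : ↥G') h2⟩

theorem Pc.mul {Q : Subgroup Fi24} (hQ : IsPGroup 3 Q) {x y : Fi24} (hx : x ∈ Q) (hy : y ∈ Q) (h : Pc P x)
    (h' : Pc P y) : Pc P (x * y) := by
  obtain ⟨h1, h2⟩ := h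
  obtain ⟨h3, h4⟩ := h'
  have hQ' : IsPGroup 3 (Q.subgroupOf G') := hQ.comap_of_injective (G').subtype (G').subtype_injective
  exact ⟨mul_mem h1 h3, hP.mul (x := ⟨x, h1⟩) (y := ⟨y, h3⟩) hQ' hx hy h2 h4⟩

theorem Pc.add {v w : V} (h : Pc P (vec v)) (h' : Pc P (vec w)) : Pc P (vec (v + w)) := by
  rw [vec_add]
  exact Pc.mul hP isPGroup_A (vec_mem v) (vec_mem w) h h'

theorem Pc.neg {v : V} (h : Pc P (vec v)) : Pc P (vec (-v)) := by
  rw [vec_neg]
  exact Pc.inv hP h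

/-- products of two reflections -/
theorem Pc.two {c d v : V} (hc : Qf c = 1) (hd : Qf d = 1) (h : Pc P (vec v)) : Pc P (vec (rc c (rc d v))) := by
  obtain ⟨t, ht, -, htN, hPt⟩ := exists_transp hc
  obtain ⟨s, hs, -, hsN, hPs⟩ := exists_transp hd
  have h1 : (t * s) * vec v * (t * s)⁻¹ = vec (rc c (rc d v)) := by
    have e : (t * s) * vec v * (t * s)⁻¹ = t * (s * vec v * s⁻¹) * t⁻¹ := by group
    have e1 : s * vec v * s⁻¹ = vec (rc d v) := by
      have := Ph_spec ⟨s, hsN⟩ v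
      rw [hPs, ac_R1] at this
      exact this
    have e2 : t * vec (rc d v) * t⁻¹ = vec (rc c (rc d v)) := by
      have := Ph_spec ⟨t, htN⟩ (rc d v)
      rw [hPt, ac_R1] at this
      exact this
    rw [e, e1, e2]
  rw [← h1]
  exact Pc.conj hP (Cfsg.Agent.R08.FiTwentyFour.even ht hs) h

omit hP in
theorem exists_cd {v : V} (hv : v ≠ 0) : ∃ c d, Qf c = 1 ∧ Qf d = 1 ∧ Bf v c ≠ 0 ∧ Bf v d = 0 := by
  have key : ∀ w c d : V, Path Set.univ v w → Qf c = 1 → Qf d = 1 → Bf w c ≠ 0 → Bf w d = 0 →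
      ∃ c d, Qf c = 1 ∧ Qf d = 1 ∧ Bf v c ≠ 0 ∧ Bf v d = 0 := by
    intro w c d hp hc hd h1 h2
    obtain ⟨g, -, hg⟩ := hp.mem
    refine ⟨ac g⁻¹ c, ac g⁻¹ d, by rw [Qf_ac, hc], by rw [Qf_ac, hd], ?_, ?_⟩
    · rw [← Bf_ac g, hg, ac_ac_inv]; exact h1
    · rw [← Bf_ac g, hg, ac_ac_inv]; exact h2
  rcases path_root v hv with h | h | h
  · exact key _ (Pi.single 3 1) (Pi.single 0 1) h (Qf_single _) (Qf_single _) (by decide) (by decide)
  · exact key _ (Pi.single 0 1) (Pi.single 3 1) h (Qf_single _) (Qf_single _) (by decide) (by decide)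
  · exact key _ (Pi.single 0 1) (Pi.single 3 1) h (Qf_single _) (Qf_single _) (by decide) (by decide)

/-- a vector of norm 1 -/
theorem Pc.exists_one {v : V} (hv : v ≠ 0) (h : Pc P (vec v)) : ∃ c, Qf c = 1 ∧ Pc P (vec c) := by
  obtain ⟨c, d, hc, hd, h1, h2⟩ := exists_cd hv
  refine ⟨c, hc, ?_⟩
  have h3 := Pc.two hP hc hd h
  have h4 : rc d v = v := by unfold rc; rw [h2, zero_smul, sub_zero]
  rw [h4] at h3
  have h5 := Pc.add hP (Pc.neg hP h3) h
  have h6 : -rc c v + v = Bf v c • c := by unfold rc; abel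
  rw [h6] at h5
  have h7 : ∀ x : ZMod 3, x ≠ 0 → x = 1 ∨ x = -1 := by decide
  rcases h7 _ h1 with h8 | h8
  · rwa [h8, one_smul] at h5
  · rw [h8, neg_one_smul] at h5
    have := Pc.neg hP h5
    rwa [neg_neg] at this

omit hP in
/-- even transitivity on the vectors of norm 1 -/
theorem exists_even {c : V} (hc : Qf c = 1) : ∃ m ∈ G', m * vec c * m⁻¹ = vec r1 := by
  obtain ⟨m, -, hm⟩ := (path_one hc).conj'
  by_cases h : m ∈ G'
  · exact ⟨m, h, hm⟩
  · refine ⟨tv 0 * m, ?_, ?_⟩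
    · exact ((mul_mem_iff_of_index_two index_G').2 (iff_of_false (Cfsg.Agent.R08.FiTwentyFour.odd (tv_mem 0)) h))
    · have h1 := act 0 r1
      have h2 : rf 0 r1 = r1 := by decide
      rw [h2] at h1
      calc tv 0 * m * vec c * (tv 0 * m)⁻¹ = tv 0 * (m * vec c * m⁻¹) * (tv 0)⁻¹ := by group
        _ = vec r1 := by rw [hm, h1]

theorem Pc.all_one {v : V} (hv : v ≠ 0) (h : Pc P (vec v)) {c : V} (hc : Qf c = 1) : Pc P (vec c) := by
  obtain ⟨c', hc', h'⟩ := Pc.exists_one hP hv h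
  obtain ⟨m, hm, e⟩ := exists_even hc
  obtain ⟨m', hm', e'⟩ := exists_even hc'
  have h1 : Pc P (vec r1) := by
    rw [← e']
    exact Pc.conj hP hm' h'
  have h2 : vec c = m⁻¹ * vec r1 * m⁻¹⁻¹ := by rw [← e]; group
  rw [h2]
  exact Pc.conj hP (inv_mem hm) h1

/-- **the whole group `A` is in the class** -/
theorem Pc.all {v : V} (hv : v ≠ 0) (h : Pc P (vec v)) (w : V) : Pc P (vec w) := by
  induction w using V_ind with
  | h0 => rw [vec_zero]; exact Pc.one hP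
  | ha v w hv hw => exact Pc.add hP hv hw
  | h1 i => exact Pc.all_one hP hv h (Qf_single i)

end cls

/-- the class contains a nontrivial element of `A` -/
theorem exists_vec {P : ↥G' → Prop} (hP : PCl 3 P) {x : ↥G'} (hx : PEl 3 x) (hx1 : x ≠ 1) (hPx : P x) :
    ∃ v : V, v ≠ 0 ∧ Pc P (vec v) := by
  have : Finite Fi24 := finite_Fi24
  have hA : IsPGroup 3 (A.subgroupOf G') := isPGroup_A.comap_of_injective (G').subtype (G').subtype_injective
  obtain ⟨S, hS⟩ := hA.exists_le_sylow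
  obtain ⟨d, hd, hd1, hdc⟩ := H280.StrongFusion.exists_mem_center S (H792.SpTool.part_closed hP S)
    (H792.SpTool.part_ne_bot hP S hx hx1 hPx)
  have hdA : (d : Fi24) ∈ A := by
    apply mem_A_of_comm
    rintro _ ⟨v, rfl⟩
    have h1 : (⟨vec v, vec_mem' v⟩ : ↥G') ∈ (S : Subgroup ↥G') := hS (vec_mem v)
    exact (congrArg Subtype.val (hdc _ h1)).symm
  obtain ⟨v, hv⟩ := hdA
  refine ⟨v, ?_, ?_⟩
  · rintro rfl
    rw [vec_zero] at hv
    exact hd1 (Subtype.ext hv.symm)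
  · rw [hv]
    exact ⟨d.2, hd.2⟩

/-- **a nontrivial class contains `A`** -/
theorem all_A {P : ↥G' → Prop} (hP : PCl 3 P) {x : ↥G'} (hx : PEl 3 x) (hx1 : x ≠ 1) (hPx : P x) (w : V) :
    Pc P (vec w) := by
  obtain ⟨v, hv, h⟩ := exists_vec hP hx hx1 hPx
  exact Pc.all hP hv h w

/-- the class contains `l k` -/
theorem all_lk {P : ↥G' → Prop} (hP : PCl 3 P) {x : ↥G'} (hx : PEl 3 x) (hx1 : x ≠ 1) (hPx : P x) :
    Pc P (gen .l * gen .k) := by
  have h3 : Pc P (av 3) := by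
    rw [← vec_single_one]
    exact all_A hP hx hx1 hPx _
  rw [av3_eq] at h3
  obtain ⟨g, h1, h2⟩ := H840.Lk.noncomm_trans (gL .l) isPt_tl.mem (gL .l) (gL .k) l_tl H840.Lk.not_comm_lk
  have key : ∀ g : Fi24, g * gen .l * g⁻¹ = gen .l → g * Cfsg.Agent.KFacts.FiTF.Defs.tr
      Cfsg.Agent.LThreeFi24.TwinK.vl .k * g⁻¹ = gen .k → g ∈ G' → Pc P (gen .l * gen .k) := by
    intro g h1 h2 hg
    have h4 := Pc.conj hP hg h3
    have e : g * (gen .l * Cfsg.Agent.KFacts.FiTF.Defs.tr Cfsg.Agent.LThreeFi24.TwinK.vl .k) * g⁻¹ =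
        (g * gen .l * g⁻¹) * (g * Cfsg.Agent.KFacts.FiTF.Defs.tr Cfsg.Agent.LThreeFi24.TwinK.vl .k * g⁻¹) := by group
    rwa [e, h1, h2] at h4
  by_cases hg : g ∈ G'
  · exact key g h1 h2 hg
  · have hj := H840.Lk.j_Dlk
    have jl : gen .j * gen .l * (gen .j)⁻¹ = gen .l := by
      rw [← hj.2.1.eq, mul_inv_cancel_right]
    have jk : gen .j * gen .k * (gen .j)⁻¹ = gen .k := by
      rw [← hj.2.2.eq, mul_inv_cancel_right]
    refine key (gen .j * g) ?_ ?_ ?_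
    · rw [show gen .j * g * gen .l * (gen .j * g)⁻¹ = gen .j * (g * gen .l * g⁻¹) * (gen .j)⁻¹ by group, h1, jl]
    · rw [show ∀ t, gen .j * g * t * (gen .j * g)⁻¹ = gen .j * (g * t * g⁻¹) * (gen .j)⁻¹ from fun t => by group, h2, jk]
    · exact ((mul_mem_iff_of_index_two index_G').2 (iff_of_false (Cfsg.Agent.R08.FiTwentyFour.odd (gL .j)) hg))

end Cfsg.Agent.H843.FullFi
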