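import Cfsg.Agent.H843.FullFiA
import Cfsg.Agent.H794.DefRank
import Cfsg.Agent.Fischer.Y322Iso
import Cfsg.Agent.Fischer919.OmegaIdent
import Cfsg.Agent.LieClassical.OrthCenter

/-!
# `Fi24'`: every nontrivial class of `3`-elements is everything (helper843)
-/

set_option autoImplicit false
set_option maxRecDepth 100000

namespace Cfsg.Agent.H843.FullFi

open Subgroup Cfsg Cfsg.Agent.H749
open Cfsg.Agent.H841.Sev
open Cfsg.Agent.Fischer.Fi24RepDef Cfsg.Agent.Fischer.Fi24Rep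
open Cfsg.Agent.R08.FiTwentyFour (L finite_Fi24)
open Cfsg.Spor (Fi24)
open Cfsg.Spor.Fi24 (Gen)
open scoped commutatorElement

local instance : Fact (Nat.Prime 3) := ⟨Nat.prime_three⟩

/-! ### `Ω₇(3)` -/

theorem fullP_POmega_odd : FullP 3 (POmega (ZMod 3) (quadFormOdd 3 (ZMod 3))) := by
  have e := Cfsg.Agent.Fischer.Y322Iso.equiv
  have hs : IsSimpleGroup (POmega (ZMod 3) (quadFormOdd 3 (ZMod 3))) := by
    have := Cfsg.Agent.Fischer.Y322Iso.simple_H8
    exact e.symm.isSimpleGroup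
  have hcard : Nat.card (POmega (ZMod 3) (quadFormOdd 3 (ZMod 3))) = 4585351680 := by
    rw [← Nat.card_congr e.toEquiv, Cfsg.Agent.Fischer.Y322Iso.card_H8]
  have hfin : Finite (POmega (ZMod 3) (quadFormOdd 3 (ZMod 3))) := Quotient.finite _
  have hc : ∃ a b : POmega (ZMod 3) (quadFormOdd 3 (ZMod 3)), a * b ≠ b * a := by
    by_contra hcon
    push Not at hcon
    let _ : CommGroup (POmega (ZMod 3) (quadFormOdd 3 (ZMod 3))) :=
      { (inferInstance : Group (POmega (ZMod 3) (quadFormOdd 3 (ZMod 3)))) with mul_comm := hcon }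
    have hp : (Nat.card (POmega (ZMod 3) (quadFormOdd 3 (ZMod 3)))).Prime := IsSimpleGroup.prime_card
    rw [hcard] at hp
    revert hp
    norm_num
  exact H792.SpTool.fullP_of_full (H794.DefRank.full_of_rk2 hc (H794.DefRank.rk2_PO_odd (by decide) (by norm_num)))

/-- the commutator subgroup of the isometry group -/
theorem omega_equiv : Nonempty (↥(commutator O) ≃* POmega (ZMod 3) (quadFormOdd 3 (ZMod 3))) := by
  obtain ⟨e1⟩ := Cfsg.Agent.Fischer919.OmegaIdent.exists_equiv_quadFormOdd (m := 3) (show (2 : ZMod 3) ≠ 0 by decide)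
    QF nondeg
  have hc : Subgroup.center (Omega (ZMod 3) (⇑QF)) = ⊥ :=
    Cfsg.Agent.LieClassical.OrthCenter.center_omega_eq_bot_of_odd (by decide) nondeg (by simp) (by simp; decide)
      ⟨y3, by decide, Qy3⟩
  let e3 : (Omega (ZMod 3) (⇑QF) ⧸ Subgroup.center (Omega (ZMod 3) (⇑QF))) ≃* Omega (ZMod 3) (⇑QF) :=
    (QuotientGroup.quotientMulEquivOfEq hc).trans QuotientGroup.quotientBot
  exact ⟨e3.symm.trans e1⟩

theorem fullP_omega : FullP 3 ↥(commutator O) := by
  obtain ⟨e⟩ := omega_equiv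
  exact fullP_POmega_odd.of_mulEquiv e.symm

theorem card_omega : Nat.card ↥(commutator O) = 4585351680 := by
  obtain ⟨e⟩ := omega_equiv
  rw [Nat.card_congr e.toEquiv, ← Nat.card_congr Cfsg.Agent.Fischer.Y322Iso.equiv.toEquiv,
    Cfsg.Agent.Fischer.Y322Iso.card_H8]

/-- the abelianization has exponent two -/
theorem sq_mem (g : O) : Abelianization.of g * Abelianization.of g = 1 := by
  refine Cfsg.Agent.ClassicalGeometry.CartanDieudonne.isometry_induction (by decide) QF nondeg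
    (fun g => Abelianization.of g * Abelianization.of g = 1) (by rw [map_one, mul_one]) ?_ g
  intro v hv g hg
  have h1 : Cfsg.Agent.ClassicalGeometry.Reflection.reflIso QF v hv *
      Cfsg.Agent.ClassicalGeometry.Reflection.reflIso QF v hv = 1 :=
    Cfsg.Agent.ClassicalGeometry.Reflection.reflIso_mul_self QF v hv
  have h2 : Abelianization.of (Cfsg.Agent.ClassicalGeometry.Reflection.reflIso QF v hv) *
      Abelianization.of (Cfsg.Agent.ClassicalGeometry.Reflection.reflIso QF v hv) = 1 := by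
    rw [← map_mul, h1, map_one]
  show Abelianization.of (_ * g) * Abelianization.of (_ * g) = 1
  rw [map_mul, mul_mul_mul_comm, h2, hg, mul_one]

theorem index_omega : ¬ 3 ∣ (commutator O).index := by
  have : Finite O := inferInstance
  intro h
  have h1 : 3 ∣ Nat.card (Abelianization O) := h
  obtain ⟨x, hx⟩ := exists_prime_orderOf_dvd_card' 3 h1
  obtain ⟨g, rfl⟩ := QuotientGroup.mk_surjective (s := commutator O) x
  have h2 : orderOf (Abelianization.of g) ∣ 2 := orderOf_dvd_of_pow_eq_one (by rw [pow_two]; exact sq_mem g)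
  have h3 : (3 : ℕ) ∣ 2 := by rw [← hx]; exact h2
  omega

/-! ### `N(A) ∩ G'` -/

/-- the normalizer of `A` in `G'` -/
abbrev NG : Subgroup ↥G' := N.subgroupOf G'

/-- the action -/
noncomputable def ph : ↥NG →* O := Ph.comp
  { toFun := fun x => ⟨((x : ↥G') : Fi24), x.2⟩
    map_one' := rfl
    map_mul' := fun _ _ => rfl }

theorem ph_apply (x : ↥NG) : ph x = Ph ⟨((x : ↥G') : Fi24), x.2⟩ := rfl

theorem ph_eq_one {x : ↥NG} : ph x = 1 ↔ ((x : ↥G') : Fi24) ∈ A := by rw [ph_apply, Ph_eq_one]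

theorem isPGroup_ker : IsPGroup 3 ph.ker := by
  rw [isPGroup_iff]
  intro x hx
  rw [MonoidHom.mem_ker, ph_eq_one] at hx
  obtain ⟨v, hv⟩ := hx
  refine ⟨1, Subtype.ext (Subtype.ext ?_)⟩
  show ((x : ↥G') : Fi24) ^ 3 ^ 1 = 1
  rw [← hv, pow_one, vec_cube]

theorem omega_le : commutator O ≤ ph.range := by
  rw [commutator_def, commutator_le]
  intro g _ h _
  have key : ∀ g : O, ∃ a ∈ Ph.range, g = a ∨ g = nO * a := by
    intro g
    rcases mem_or g with h | h
    · exact ⟨g, RG_le_range h, Or.inl rfl⟩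
    · refine ⟨nO * g, RG_le_range h, Or.inr ?_⟩
      rw [← mul_assoc, nO_sq, one_mul]
  have hn : ∀ a b : O, ⁅nO * a, b⁆ = ⁅a, b⁆ := by
    intro a b
    rw [commutatorElement_def, commutatorElement_def, mul_inv_rev]
    calc nO * a * b * (a⁻¹ * nO⁻¹) * b⁻¹ = (nO * (a * b * a⁻¹)) * nO⁻¹ * b⁻¹ := by group
      _ = _ := by rw [nO_comm]; group
  have hn' : ∀ a b : O, ⁅a, nO * b⁆ = ⁅a, b⁆ := by
    intro a b
    rw [← commutatorElement_inv, hn, commutatorElement_inv]
  obtain ⟨a, ⟨x, rfl⟩, ha⟩ := key g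
  obtain ⟨b, ⟨y, rfl⟩, hb⟩ := key h
  have e : ⁅g, h⁆ = ⁅Ph x, Ph y⁆ := by
    rcases ha with rfl | rfl <;> rcases hb with rfl | rfl
    · rfl
    · rw [hn']
    · rw [hn]
    · rw [hn, hn']
  rw [e, ← map_commutatorElement]
  have h1 : (((⁅x, y⁆ : ↥N)) : Fi24) ∈ G' := commutator_mem_commutator (mem_top (x : Fi24)) (mem_top (y : Fi24))
  exact ⟨⟨⟨_, h1⟩, (⁅x, y⁆ : ↥N).2⟩, rfl⟩

theorem fullP_range : FullP 3 ↥ph.range := by
  have : Finite O := inferInstance
  have hidx : ¬ 3 ∣ ((commutator O).subgroupOf ph.range).index := by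
    intro h
    apply index_omega
    exact h.trans (relIndex_dvd_index_of_normal (commutator O) ph.range)
  exact H792.SpTool.fullP_of_subgroup _ hidx
    (fullP_omega.of_mulEquiv (subgroupOfEquivOfLe omega_le).symm)

theorem card_ker : Nat.card ph.ker = 3 ^ 7 := by
  rw [← card_A]
  refine Nat.card_congr (Equiv.ofBijective (fun x => ⟨((x : ↥NG) : ↥G'), ph_eq_one.1 x.2⟩) ⟨?_, ?_⟩)
  · intro x y h
    have := congrArg (Subtype.val : ↥A → Fi24) h
    exact Subtype.ext (Subtype.ext (Subtype.ext this))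
  · rintro ⟨g, hg⟩
    have h1 : g ∈ G' := by
      obtain ⟨v, rfl⟩ := hg
      exact vec_mem' v
    exact ⟨⟨⟨⟨g, h1⟩, A_le_N hg⟩, ph_eq_one.2 hg⟩, rfl⟩

theorem index_NG : ¬ 3 ∣ (NG).index := by
  have : Finite Fi24 := finite_Fi24
  intro h
  have h1 : 4585351680 ∣ Nat.card ph.range := by
    rw [← card_omega]
    exact card_dvd_of_le omega_le
  have h2 : Nat.card ph.ker * Nat.card ph.range = Nat.card ↥NG := by
    rw [← Subgroup.index_ker, Subgroup.card_mul_index]
  have h3 : 3 ^ 16 ∣ Nat.card ↥NG := by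
    rw [← h2, card_ker]
    exact (show (3 ^ 16 : ℕ) ∣ 3 ^ 7 * 4585351680 by norm_num).trans (mul_dvd_mul_left _ h1)
  have h4 : 3 ^ 16 * 3 ∣ Nat.card ↥G' := by
    rw [← Subgroup.card_mul_index NG]
    exact mul_dvd_mul h3 h
  rw [Cfsg.Agent.R08.FiTwentyFour.card_commutator] at h4
  revert h4
  norm_num

theorem lk_mem : gen .l * gen .k ∈ N := by
  have h3 := tv_mem_N 3
  have h4 := tv_mem_N 4
  rw [tv3] at h3
  rw [tv4] at h4
  exact mul_mem h3 h4

theorem lk_not_mem : gen .l * gen .k ∉ A := by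
  intro h
  have h1 := Ph_eq_one (g := ⟨gen .l * gen .k, lk_mem⟩).2 h
  have h2 := Ph_spec ⟨gen .l * gen .k, lk_mem⟩ (Pi.single 4 1)
  rw [h1, ac_one] at h2
  have e3 := act 3 (rf 4 (Pi.single 4 1))
  have e4 := act 4 (Pi.single 4 1)
  rw [tv3] at e3
  rw [tv4] at e4
  have h5 : gen .l * gen .k * vec (Pi.single 4 1) * (gen .l * gen .k)⁻¹ = vec (rf 3 (rf 4 (Pi.single 4 1))) := by
    rw [← e3, ← e4]; group
  have h6 := vec_inj (h5.symm.trans h2)
  revert h6
  decide

/-- **`Fi24'`** -/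
theorem fullP_fi24p : FullP 3 Cfsg.Spor.Fi24' := by
  have : Finite Fi24 := finite_Fi24
  rintro P hP ⟨x, hx, hx1, hPx⟩ y hy
  refine FullExt.all_of_subgroup hP NG index_NG ?_ hy
  intro z hz hz3
  obtain ⟨hlk, hPlk⟩ := all_lk hP hx hx1 hPx
  have hy3 : PEl 3 (gen .l * gen .k : Fi24) := by
    have h1 := (Cfsg.Agent.R08.FiTwentyFour.three (gL .l) (gL .k)).resolve_left H840.Lk.not_comm_lk
    refine ⟨1, ?_⟩
    rw [pow_one, pow_succ, pow_two]
    calc gen .l * gen .k * (gen .l * gen .k) * (gen .l * gen .k) =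
        (gen .l * gen .k * gen .l) * (gen .k * gen .l * gen .k) := by group
      _ = (gen .l * gen .k * gen .l) * (gen .l * gen .k * gen .l) := by rw [h1]
      _ = gen .l * gen .k * (gen .l * gen .l) * gen .k * gen .l := by group
      _ = gen .l * (gen .k * gen .k) * gen .l := by rw [gsq, mul_one]; group
      _ = 1 := by rw [gsq, mul_one, gsq]
  have key := FullExt.all_of_ker ph isPGroup_ker fullP_range (hP.comap (NG).subtype) (fun z hz => ?_)
    (x := ⟨⟨gen .l * gen .k, hlk⟩, lk_mem⟩) ?_ ?_ hPlk (y := ⟨z, hz⟩) ?_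
  · exact key
  · rw [ph_eq_one] at hz
    obtain ⟨v, hv⟩ := hz
    obtain ⟨h1, h2⟩ := all_A hP hx hx1 hPx v
    have h3 : (⟨vec v, h1⟩ : ↥G') = (NG).subtype z := Subtype.ext hv
    rw [← h3]
    exact h2
  · obtain ⟨k, hk⟩ := hy3
    exact ⟨k, Subtype.ext (Subtype.ext hk)⟩
  · intro h
    exact lk_not_mem (ph_eq_one.1 h)
  · obtain ⟨k, hk⟩ := hz3
    exact ⟨k, Subtype.ext hk⟩

/-- **`Fi24'`, `p = 3`** -/
theorem fullP_fi24p_three {G : Type*} [Group G] [Finite G] (h : Cfsg.Spor.IsoFi24' G)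
    (_h23 : Cfsg.Agent.H749.FullP 3 Cfsg.Spor.Fi23) : Cfsg.Agent.H749.FullP 3 G := by
  obtain ⟨e⟩ := h
  exact fullP_fi24p.of_mulEquiv e.symm

end Cfsg.Agent.H843.FullFi
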