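import Cfsg.Agent.H843.FullExt
import Cfsg.Agent.H838.ThreeCl
import Cfsg.Agent.R08.FiTwentyThree

/-!
# `Fi23`: every element of order 3 is in every nontrivial class (helper843)
-/

set_option autoImplicit false
set_option linter.constructorNameAsVariable false
set_option maxRecDepth 100000

namespace Cfsg.Agent.H843.FullFiC

open Subgroup Cfsg Cfsg.Agent.H749
open Cfsg.Agent.LThreeFi23 Cfsg.Agent.H838.Fi23 Cfsg.Agent.H838.Three
open Cfsg.Agent.Fischer.Fi23Hom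
open Cfsg.Spor (Fi23 Fi22)

local instance : Fact (Nat.Prime 3) := ⟨Nat.prime_three⟩

/-- the centralizer of the transposition `z0` -/
abbrev K0 : Subgroup Fi23 := Cfsg.Agent.Fischer.Fi23Class.K

theorem mem_K0 (g : Fi23) : g ∈ K0 ↔ g * el .z = el .z * g := Cfsg.Agent.R08.FiTwentyThree.mem_K_iff g

/-- `C(z0) = 2.Fi22` -/
theorem fullP_K0 (h22 : FullP 3 Fi22) : FullP 3 ↥K0 := by
  have hf : Finite Fi22 := by
    have : Finite ↥K0 := inferInstance
    exact Finite.of_surjective _ Cfsg.Agent.R08.FiTwentyThree.pi_surjective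
  refine H792.SpTool.fullP_of_surjective_pprime Cfsg.Agent.R08.FiTwentyThree.pi
    Cfsg.Agent.R08.FiTwentyThree.pi_surjective ?_ h22
  have h1 : (Cfsg.Agent.R08.FiTwentyThree.pi.ker : Set ↥K0) = {1, Cfsg.Agent.R08.FiTwentyThree.zK} := by
    ext x
    rw [SetLike.mem_coe, MonoidHom.mem_ker, Cfsg.Agent.R08.FiTwentyThree.pi_ker]
    rfl
  have h2 : Nat.card Cfsg.Agent.R08.FiTwentyThree.pi.ker = 2 := by
    have h3 : Nat.card Cfsg.Agent.R08.FiTwentyThree.pi.ker =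
        (Cfsg.Agent.R08.FiTwentyThree.pi.ker : Set ↥K0).ncard := rfl
    rw [h3, h1, Set.ncard_pair Cfsg.Agent.R08.FiTwentyThree.zK_ne.symm]
  rw [h2]
  decide

theorem k_fix : ptsChk [([.z, .j], 11589, 11589), (y135, 0, 0), (y324, 11589, 11589), (y27, 8002, 8002)] = true := by
  decide +kernel

/-- the four representatives commute with a letter -/
theorem rep_comm (k : Fin 4) : ∃ x : Lt, rep k * el x = el x * rep k := by
  have key : ∀ (w : List Lt) (x : Lt), (w, pt x, pt x) ∈ ([([.z, .j], 11589, 11589), (y135, 0, 0),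
      (y324, 11589, 11589), (y27, 8002, 8002)] : List (List Lt × ℕ × ℕ)) → elw w * el x = el x * elw w := by
    intro w x hw
    rw [← fix_pt_iff]
    exact ptsChk_spec k_fix _ hw
  fin_cases k
  · have h := key [.z, .j] .a (by simp [pt])
    rw [elw_cons, elw_one] at h
    exact ⟨.a, h⟩
  · exact ⟨.z, key y135 .z (by simp [pt])⟩
  · exact ⟨.a, key y324 .a (by simp [pt])⟩
  · exact ⟨.f, key y27 .f (by simp [pt])⟩

/-- every element of order 3 is conjugate to an element commuting with `z0` -/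
theorem exists_conj_K0 {x : Fi23} (hx : x ^ 3 = 1) (hne : x ≠ 1) : ∃ g : Fi23, g * x * g⁻¹ ∈ K0 := by
  obtain ⟨k, g, hg⟩ := classes hx hne
  obtain ⟨l, hl⟩ := rep_comm k
  obtain ⟨h, hh⟩ : ∃ h : Fi23, el l = h * el .z * h⁻¹ := by
    have h1 : el l ∈ DD := el_mem_DD l
    rw [DD_eq .z] at h1
    exact h1
  have h1 : ∀ y : Fi23, y * el l = el l * y → h⁻¹ * y * h ∈ K0 := by
    intro y hy
    rw [mem_K0]
    rw [hh] at hy
    calc h⁻¹ * y * h * el .z = h⁻¹ * (y * (h * el .z * h⁻¹)) * h := by group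
      _ = h⁻¹ * (h * el .z * h⁻¹ * y) * h := by rw [hy]
      _ = _ := by group
  refine ⟨h⁻¹ * g, ?_⟩
  have e : h⁻¹ * g * x * (h⁻¹ * g)⁻¹ = h⁻¹ * (g * x * g⁻¹) * h := by group
  rw [e]
  apply h1
  rcases hg with hg | hg
  · rw [hg, hl]
  · rw [hg]
    exact ((show Commute (rep k) (el l) from hl).inv_left).eq

/-- **the elements of order 3** -/
theorem all_three (h22 : FullP 3 Fi22) {P : Fi23 → Prop} (hP : PCl 3 P) {x : Fi23} (hx : PEl 3 x) (hx1 : x ≠ 1)
    (hPx : P x) {y : Fi23} (hy : y ^ 3 = 1) : P y := by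
  by_cases hy1 : y = 1
  · rw [hy1]; exact hP.one
  obtain ⟨x', hx', hx1', hPx'⟩ := FullExt.exists_order hP hx hx1 hPx
  obtain ⟨g, hg⟩ := exists_conj_K0 hx' hx1'
  obtain ⟨k, hk⟩ := exists_conj_K0 hy hy1
  have h1 := fullP_K0 h22 _ (hP.comap K0.subtype) ⟨⟨g * x' * g⁻¹, hg⟩, ⟨1, Subtype.ext ?_⟩, ?_, ?_⟩
    ⟨k * y * k⁻¹, hk⟩ ⟨1, Subtype.ext ?_⟩
  · exact hP.of_conj h1
  · show (g * x' * g⁻¹) ^ 3 ^ 1 = 1
    rw [pow_one, conj_pow, hx', mul_one, mul_inv_cancel]
  · intro h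
    exact hx1' (conj_eq_one_iff.1 (congrArg Subtype.val h))
  · exact hP.conj g hPx'
  · show (k * y * k⁻¹) ^ 3 ^ 1 = 1
    rw [pow_one, conj_pow, hy, mul_one, mul_inv_cancel]

end Cfsg.Agent.H843.FullFiC
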