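import Cfsg.Agent.H802.OC.Base
import Cfsg.Agent.CTwoTab.Fi22
import Cfsg.Agent.LThreeFi23.CentUu
import Cfsg.Agent.CTwoTab.Co3
import Cfsg.Agent.S1696

/-!
# The rows `Co₃`, `Fi₂₂`, `Fi₂₃` of S4063 (helper843)

`p ^ n ∣ |S|`, an element `y` of order `p` with `p ^ n ∤ |C(y)|`: an element of order `p` which is central in a Sylow
`p`-subgroup has a centraliser of another order.
-/

set_option autoImplicit false

open Cfsg Cfsg.Agent.H802.OC Subgroup

namespace Cfsg.Agent.H843.OCSpor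

theorem row_of_lt {S : Type*} [Group S] [Finite S] (p n : ℕ) [Fact p.Prime] (hn : n ≠ 0) (hS : p ^ n ∣ Nat.card S) {y : S}
    (hy : orderOf y = p) (hc : ¬ p ^ n ∣ Nat.card (centralizer ({y} : Set S))) : Row S := by
  obtain ⟨P⟩ : Nonempty (Sylow p S) := inferInstance
  have h1 : Nat.card P = p ^ (Nat.card S).factorization p := P.card_eq_multiplicity
  have h2 : p ^ n ∣ Nat.card P := by
    rw [h1]
    exact pow_dvd_pow p (((Fact.out : p.Prime).pow_dvd_iff_le_factorization Nat.card_pos.ne').1 hS)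
  have hPn : Nontrivial P := by
    rw [← Finite.one_lt_card_iff_nontrivial]
    have h3 : p ^ n ≤ Nat.card P := Nat.le_of_dvd Nat.card_pos h2
    have h4 : 1 < p ^ n := Nat.one_lt_pow hn (Fact.out : p.Prime).one_lt
    exact lt_of_lt_of_le h4 h3
  have hP : IsPGroup p P := P.isPGroup'
  have hZ : Nontrivial (center P) := hP.center_nontrivial
  have hpd : p ∣ Nat.card (center P) := by
    have h5 : IsPGroup p (center P) := hP.to_subgroup _
    obtain ⟨k, hk⟩ := IsPGroup.iff_card.1 h5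
    have h6 : 1 < Nat.card (center P) := Finite.one_lt_card_iff_nontrivial.2 hZ
    rw [hk] at h6 ⊢
    exact dvd_pow_self p (by rintro rfl; simp at h6)
  obtain ⟨x, hx⟩ := exists_prime_orderOf_dvd_card' p hpd
  have hx' : orderOf (((x : P) : S)) = p := by rw [orderOf_coe, orderOf_coe, hx]
  refine row_of_dvd (x := ((x : P) : S)) (y := y) (by rw [hx', hy]) (p ^ n) ?_ hc
  refine h2.trans (card_dvd_of_le ?_)
  intro g hg
  rw [mem_centralizer_singleton_iff]
  exact congrArg Subtype.val (mem_center_iff.1 x.2 ⟨g, hg⟩)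

theorem row_fi23 : Row Cfsg.Spor.Fi23 := by
  have hf : Finite Cfsg.Spor.Fi23 := Nat.finite_of_card_ne_zero (by rw [Cfsg.Agent.LThreeFi23.card_G]; norm_num)
  have : Fact (Nat.Prime 3) := ⟨by norm_num⟩
  refine row_of_lt 3 13 (by norm_num) ?_ (y := Cfsg.Agent.LThreeFi23.uu) Cfsg.Agent.LThreeFi23.order_uu ?_
  · rw [Cfsg.Agent.LThreeFi23.card_G]; norm_num
  · rw [Cfsg.Agent.LThreeFi23.card_C]; norm_num

theorem row_co3 : Row Cfsg.Spor.Co3 := by
  have hf : Finite (SporRec.Co3.Chain.G3) := CTwoTab.Co3.finite_G3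
  obtain ⟨e⟩ := SigZero.CoThree.exists_equiv
  obtain ⟨π, N⟩ := KFacts.Co3D4.exists_NS_G3
  refine Row.congr SporRec.Co3.Model.equivCo3 (row_of_dvd (x := e SigZero.CoThreeB.wK) (y := SporRec.Co3.Ident.Z) ?_ 11 ?_ ?_)
  · rw [KFacts.Co3D4.orderOf_Z]
    refine orderOf_eq_prime (by rw [pow_two, ← map_mul, SigZero.CoThreeB.wK_sq, map_one]) fun h => ?_
    exact SigZero.CoThreeB.wK_ne ((map_eq_one_iff e e.injective).1 h)
  · have h1 : Nat.card (centralizer ({e SigZero.CoThreeB.wK} : Set SporRec.Co3.Chain.G3)) = Nat.card SigZero.CoThreeB.C := by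
      refine Nat.card_congr ⟨fun g => ⟨e.symm g, ?_⟩, fun g => ⟨e g, ?_⟩, fun g => Subtype.ext (e.apply_symm_apply _),
        fun g => Subtype.ext (e.symm_apply_apply _)⟩
      · rw [SigZero.CoThreeB.mem_C]
        apply e.injective
        rw [map_mul, map_mul, e.apply_symm_apply]
        exact Subgroup.mem_centralizer_singleton_iff.1 g.2
      · rw [Subgroup.mem_centralizer_singleton_iff, ← map_mul, ← map_mul, SigZero.CoThreeB.mem_C.1 g.2]
    rw [h1]
    have h2 := Subgroup.card_dvd_of_surjective SigZero.CoThreeB.proj SigZero.CoThreeB.proj_surj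
    rw [MTwelveType.SylowModel.card_M12] at h2
    exact (by norm_num : 11 ∣ 95040).trans h2
  · have h3 := CTwoTab.Co3.card_of_NS N
    intro h4
    have h5 : 11 ∣ 2903040 := h3 ▸ h4
    revert h5
    norm_num

theorem row_fi22 : Row Cfsg.Spor.Fi22 := by
  have hf : Finite Cfsg.Spor.Fi22 := R08.AutT.finite
  have : Fact (Nat.Prime 2) := ⟨by norm_num⟩
  have hne : (R08.AutT.T).Nonempty := Set.nonempty_of_ncard_ne_zero (by
    have h := R01.Fi22Facts.ncard_T
    have h' : (R08.AutT.T).ncard = 3510 := h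
    rw [h']; norm_num)
  obtain ⟨d, hd⟩ := hne
  obtain ⟨b, c, ht⟩ := StdFi22.MainFi22.bas.exists_tri hd
  obtain ⟨R, F⟩ := CTwoTab.Fi22.facts hd ht.my ht.xy ht.cxy
  have hd2 : orderOf d = 2 := orderOf_eq_prime (by rw [pow_two]; exact F.dd) F.d_ne
  refine row_of_lt 2 17 (by norm_num) ?_ hd2 ?_
  · rw [S1696.result.2]; norm_num
  · rw [CTwoTab.Fi22.card_cent F]; norm_num

end Cfsg.Agent.H843.OCSpor
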